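import Mathlib
import Groth.Agent.Lib.EssEtLoc.Stage
import Groth.Agent.Lib.Hensel.Normal
import Groth.Agent.Lib.Hensel.Henselization

/-!
# Étale algebras over the fraction field split by a strict henselization
-/

set_option autoImplicit false

universe u

open TensorProduct IsLocalRing

namespace Groth.Agent.SplitHens21

/-- Localizations of étale algebras commute with integral closures. -/
theorem bijective_toIntegralClosure_atPrime {A C E : Type u} [CommRing A] [CommRing C] [Algebra A C]
    [CommRing E] [Algebra A E] [Algebra.Smooth A C] (q : Ideal C) [q.IsPrime] :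
    Function.Bijective (TensorProduct.toIntegralClosure A (Localization.AtPrime q) E) :=
  TensorProduct.toIntegralClosure_bijective_of_tower (S := C)
    TensorProduct.toIntegralClosure_bijective_of_smooth
    (TensorProduct.toIntegralClosure_bijective_of_isLocalization q.primeCompl)

/-- Elements of an étale stage are algebraic over the fraction field. -/
theorem isAlgebraic_of_stage {A R K L : Type u} [CommRing A] [CommRing R] [Algebra A R] [Field K]
    [Field L] [Algebra A K] [Algebra R L] [Algebra K L] [Algebra A L] [IsScalarTower A K L]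
    [IsScalarTower A R L] {C : Type u} [CommRing C] [Algebra A C] [Algebra.Etale A C]
    (φ : C →ₐ[A] R) (c : C) : IsAlgebraic K (algebraMap R L (φ c)) := by
  let χ : K ⊗[A] C →ₐ[K] L :=
    Algebra.TensorProduct.lift (Algebra.ofId K L) ((IsScalarTower.toAlgHom A R L).comp φ)
      fun _ _ => .all _ _
  have : Module.Finite K (K ⊗[A] C) := Algebra.FormallyUnramified.finite_of_free K (K ⊗[A] C)
  have h : IsIntegral K (χ (1 ⊗ₜ c)) := (IsIntegral.of_finite K ((1 : K) ⊗ₜ[A] c)).map χ
  have e : χ (1 ⊗ₜ c) = algebraMap R L (φ c) := by simp [χ]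
  rw [e] at h
  exact h.isAlgebraic

/-- Every element of the fraction field has a denominator from `A`. -/
theorem exists_denominator {A R : Type u} [CommRing A] [IsDomain A] [IsLocalRing A] [CommRing R] [IsLocalRing R]
    [Algebra A R] [IsLocalHom (algebraMap A R)] [Hensel.IsStrictHenselization A R]
    {K L : Type u} [Field K] [Field L] [Algebra A K] [IsFractionRing A K] [Algebra R L]
    [IsFractionRing R L] [Algebra K L] [Algebra A L] [IsScalarTower A K L] [IsScalarTower A R L]
    [IsDomain R] (x : L) : ∃ a : A, a ≠ 0 ∧
    ∃ w : R, algebraMap A L a * x = algebraMap R L w := by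
  obtain ⟨p, q, hq, hx⟩ := IsFractionRing.div_surjective (A := R) x
  obtain ⟨C, _, _, _, φ, hφ⟩ :=
    GrothLib.Hensel.IsStrictHenselization.etaleStages (A := A) (S := R) {q}
  obtain ⟨c, hc⟩ := hφ q (Finset.mem_singleton_self q)
  have halgK : IsAlgebraic K (algebraMap R L q) := hc ▸ isAlgebraic_of_stage φ c
  have halgA : IsAlgebraic A q :=
    (isAlgebraic_algHom_iff (IsScalarTower.toAlgHom A R L) (IsFractionRing.injective R L)).mp
      ((IsFractionRing.isAlgebraic_iff A K L).mpr halgK)
  obtain ⟨a, ha, s, hs⟩ := halgA.exists_nonzero_dvd hq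
  refine ⟨a, ha, p * s, ?_⟩
  have hq0 : algebraMap R L q ≠ 0 := fun h => nonZeroDivisors.ne_zero hq
    (IsFractionRing.injective R L (h.trans (map_zero _).symm))
  rw [← hx, IsScalarTower.algebraMap_apply A R L a, hs, map_mul, map_mul]
  field_simp


/-- The normal model of a split algebra is finite étale. -/
theorem finite_etale_integralClosure {A R : Type u} [CommRing A] [IsDomain A] [IsLocalRing A] [CommRing R] [IsLocalRing R]
    [Algebra A R] [IsLocalHom (algebraMap A R)] [Hensel.IsStrictHenselization A R]
    {K L : Type u} [Field K] [Field L] [Algebra A K] [IsFractionRing A K] [Algebra R L]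
    [IsFractionRing R L] [Algebra K L] [Algebra A L] [IsScalarTower A K L] [IsScalarTower A R L]
    {E : Type u} [CommRing E] [Algebra K E] [Algebra A E] [IsScalarTower A K E] {ι : Type u} [Finite ι]
    [IsIntegrallyClosed A] [Module.Finite K E]
    (χ : (L ⊗[K] E) ≃ₐ[L] (ι → L)) :
    Module.Finite A (integralClosure A E) ∧ Algebra.Etale A (integralClosure A E) ∧
      Function.Bijective (Algebra.TensorProduct.lift (Algebra.ofId K E) (integralClosure A E).val
        (fun _ _ => .all _ _) : K ⊗[A] integralClosure A E →ₐ[K] E) := by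
  classical
  have hnorm := (GrothLib.Hensel.IsStrictHenselization.isNormalDomain_iff (R := A) (S := R)).mp
    ⟨inferInstance, inferInstance⟩
  have := hnorm.1
  have := hnorm.2
  have : Module.Flat A R := GrothLib.Hensel.IsStrictHenselization.flat
  have : Module.FaithfullyFlat A R := GrothLib.Hensel.IsStrictHenselization.faithfullyFlat
  have : Module.Flat A K := IsLocalization.flat K (nonZeroDivisors A)
  have : Module.Flat A E := Module.Flat.trans A K E
  have hcompat : CompatibleSMul A K L E :=
    IsLocalization.tensorProduct_compatibleSMul (nonZeroDivisors A) K L E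
  -- the comparison `R ⊗ E → (ι → L)`
  let θ : R ⊗[A] E →ₐ[A] (ι → L) :=
    ((χ.toAlgHom.restrictScalars A).comp
      (Algebra.TensorProduct.lift ((Algebra.TensorProduct.includeLeft : L →ₐ[A] L ⊗[K] E).comp
        (IsScalarTower.toAlgHom A R L))
        ((Algebra.TensorProduct.includeRight : E →ₐ[K] L ⊗[K] E).restrictScalars A)
        fun _ _ => .all _ _))
  have hθ : ∀ r e, θ (r ⊗ₜ e) = χ (algebraMap R L r ⊗ₜ e) := fun r e => by simp [θ]
  have hθinj : Function.Injective θ := by
    let j : R ⊗[A] E →ₗ[A] L ⊗[A] E := (IsScalarTower.toAlgHom A R L).toLinearMap.rTensor E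
    have hj : Function.Injective j :=
      Module.Flat.rTensor_preserves_injective_linearMap _ (IsFractionRing.injective R L)
    let m := TensorProduct.mapOfCompatibleSMul K A A L E
    have hm : Function.Injective m :=
      (TensorProduct.equivOfCompatibleSMul K A A L E).injective
    have e : ∀ z, θ z = χ (m (j z)) := fun z => by
      induction z using TensorProduct.induction_on with
      | zero => simp
      | tmul r e => rw [hθ]; rfl
      | add a b ha hb => rw [map_add, ha, hb, map_add, map_add, map_add]
    intro a b hab
    rw [e, e] at hab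
    exact hj (hm (χ.injective hab))
  have hθsurj : Function.Surjective θ := by
    intro y
    obtain ⟨t, rfl⟩ := χ.surjective y
    induction t using TensorProduct.induction_on with
    | zero => exact ⟨0, by simp⟩
    | add a b ha hb =>
      obtain ⟨a', ha'⟩ := ha
      obtain ⟨b', hb'⟩ := hb
      exact ⟨a' + b', by rw [map_add, ha', hb', map_add]⟩
    | tmul l e =>
      obtain ⟨a, ha, w, hw⟩ := exists_denominator (A := A) (R := R) (K := K) l
      have ha' : algebraMap A K a ≠ 0 := fun h =>
        ha (IsFractionRing.injective A K (h.trans (map_zero _).symm))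
      refine ⟨w ⊗ₜ ((algebraMap A K a)⁻¹ • e), ?_⟩
      rw [hθ, ← hw, IsScalarTower.algebraMap_apply A K L, ← Algebra.smul_def, TensorProduct.smul_tmul,
        smul_smul, mul_inv_cancel₀ ha', one_smul]
  -- the integral closure and its base change
  set B := integralClosure A E
  let β : R ⊗[A] B →ₐ[R] R ⊗[A] E := Algebra.TensorProduct.map (AlgHom.id R R) B.val
  have hβ : Function.Injective β :=
    Module.Flat.lTensor_preserves_injective_linearMap (M := R) B.val.toLinearMap Subtype.val_injective
  have hidem : ∀ f : R ⊗[A] E, f * f = f → f ∈ β.range := by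
    intro f hf
    obtain ⟨S, hS⟩ := TensorProduct.exists_finset f
    obtain ⟨C, _, _, _, φ, hφ⟩ :=
      GrothLib.Hensel.IsStrictHenselization.etaleStages (A := A) (S := R) (S.image Prod.fst)
    obtain ⟨q, _, ψ, -, hinj, -, hψ⟩ := GrothLib.EssEtLoc.exists_lift_localization φ
    let T := Localization.AtPrime q
    let γ : T ⊗[A] E →ₐ[A] R ⊗[A] E := Algebra.TensorProduct.map ψ (AlgHom.id A E)
    have hγ : Function.Injective γ :=
      Module.Flat.rTensor_preserves_injective_linearMap (M := E) ψ.toLinearMap hinj
    obtain ⟨g, hg⟩ : ∃ g, γ g = f := by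
      rw [hS]
      refine Subalgebra.sum_mem γ.range fun i hi => ?_
      obtain ⟨c, hc⟩ := hφ i.1 (Finset.mem_image_of_mem _ hi)
      refine ⟨algebraMap C T c ⊗ₜ i.2, ?_⟩
      show γ (algebraMap C T c ⊗ₜ i.2) = _
      simp only [γ, T, Algebra.TensorProduct.map_tmul, AlgHom.id_apply]
      exact congrArg (· ⊗ₜ[A] i.2) ((hψ c).trans hc)
    have hgg : g * g = g := hγ (by rw [map_mul, hg, hf])
    have hint : IsIntegral T g := by
      refine ⟨Polynomial.X ^ 2 - Polynomial.X, ?_, ?_⟩
      · exact Polynomial.monic_X_pow_sub (by simp [Polynomial.degree_X])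
      · simp [pow_two, hgg]
    obtain ⟨w, hw⟩ := (bijective_toIntegralClosure_atPrime (A := A) (E := E) q).2 ⟨g, hint⟩
    have hw' : Algebra.TensorProduct.map (AlgHom.id T T) B.val w = g := congrArg Subtype.val hw
    refine ⟨Algebra.TensorProduct.map ψ (AlgHom.id A B) w, ?_⟩
    rw [← hg, ← hw']
    clear hw hw'
    induction w using TensorProduct.induction_on with
    | zero => simp
    | tmul t b => simp [β, γ, T]
    | add a b ha hb =>
      simp only [map_add] at ha hb ⊢
      exact congrArg₂ (· + ·) ha hb
  let Φ : R ⊗[A] B →ₐ[R] (ι → L) :=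
    AlgHom.mk' ((θ : R ⊗[A] E →+* (ι → L)).comp β.toRingHom) fun r z => by
      induction z using TensorProduct.induction_on with
      | zero => simp
      | tmul r' b =>
        show θ (β (r • (r' ⊗ₜ b))) = r • θ (β (r' ⊗ₜ b))
        simp only [TensorProduct.smul_tmul', smul_eq_mul, β, Algebra.TensorProduct.map_tmul,
          AlgHom.id_apply, hθ, map_mul]
        rw [← smul_eq_mul, ← TensorProduct.smul_tmul', map_smul]
        exact (algebraMap_smul L r _)
      | add a b ha hb => rw [smul_add, map_add, ha, hb, map_add, smul_add]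
  have hΦinj : Function.Injective Φ := hθinj.comp hβ
  let κ : (ι → R) →ₐ[R] (ι → L) :=
    Pi.algHom _ _ fun i => (IsScalarTower.toAlgHom R R L).comp (Pi.evalAlgHom R (fun _ : ι => R) i)
  have hκinj : Function.Injective κ := fun x y hxy =>
    funext fun i => IsFractionRing.injective R L (congrFun hxy i)
  have hrange : Φ.range = κ.range := by
    have : Fintype ι := Fintype.ofFinite ι
    refine le_antisymm ?_ ?_
    · rintro _ ⟨z, rfl⟩
      have hz : ∀ i, IsIntegral R (Φ z i) := fun i => by
        have h : IsIntegral R z := by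
          induction z using TensorProduct.induction_on with
          | zero => exact isIntegral_zero
          | tmul r b =>
            have e : r ⊗ₜ[A] b = algebraMap R (R ⊗[A] B) r * (1 ⊗ₜ b) := by simp
            rw [e]
            exact isIntegral_algebraMap.mul
              (((integralClosure.isIntegral b).map
                (Algebra.TensorProduct.includeRight : B →ₐ[A] R ⊗[A] B)).tower_top)
          | add a b ha hb => exact ha.add hb
        exact (h.map Φ).map (Pi.evalAlgHom R (fun _ : ι => L) i)
      choose r hr using fun i => IsIntegrallyClosed.isIntegral_iff.mp (hz i)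
      exact ⟨r, funext hr⟩
    · rintro _ ⟨x, rfl⟩
      show κ x ∈ Φ.range
      rw [show x = ∑ i, x i • (Pi.single i (1 : R) : ι → R) from by
        funext j; simp [Finset.sum_apply, Pi.single_apply]]
      rw [map_sum]
      refine Subalgebra.sum_mem _ fun i _ => ?_
      rw [map_smul]
      refine Subalgebra.smul_mem _ ?_ _
      obtain ⟨f, hf⟩ := hθsurj (κ (Pi.single i 1))
      obtain ⟨z, hz⟩ := hidem f (hθinj (by
        rw [map_mul, hf, ← map_mul, ← Pi.single_mul, one_mul]))
      exact ⟨z, (congrArg θ hz).trans hf⟩
  let e : R ⊗[A] B ≃ₐ[R] (ι → R) :=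
    (AlgEquiv.ofInjective Φ hΦinj).trans ((Subalgebra.equivOfEq _ _ hrange).trans
      (AlgEquiv.ofInjective κ hκinj).symm)
  have : Module.Finite R (R ⊗[A] B) := Module.Finite.equiv e.symm.toLinearEquiv
  have : Algebra.Etale R (R ⊗[A] B) := Algebra.Etale.of_equiv e.symm
  have hfin : Module.Finite A B := Module.Finite.of_finite_tensorProduct_of_faithfullyFlat R
  refine ⟨hfin, Algebra.Etale.of_etale_tensorProduct_of_faithfullyFlat (T := R), ?_, fun y => ?_⟩
  · let j : K ⊗[A] B →ₗ[A] K ⊗[A] E := B.val.toLinearMap.lTensor K
    have hj : Function.Injective j :=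
      Module.Flat.lTensor_preserves_injective_linearMap _ Subtype.val_injective
    have hc : CompatibleSMul A K K E := IsLocalization.tensorProduct_compatibleSMul (nonZeroDivisors A) K K E
    let m := TensorProduct.mapOfCompatibleSMul K A A K E
    have hm : Function.Injective m := (TensorProduct.equivOfCompatibleSMul K A A K E).injective
    intro a b hab
    refine hj (hm ((TensorProduct.lid K E).injective ?_))
    have e : ∀ z, Algebra.TensorProduct.lift (Algebra.ofId K E) B.val (fun _ _ => .all _ _) z =
        TensorProduct.lid K E (m (j z)) := fun z => by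
      induction z using TensorProduct.induction_on with
      | zero => simp
      | tmul r b => simp [j, m, Algebra.smul_def]
      | add a b ha hb => rw [map_add, ha, hb, map_add, map_add, map_add]
    rwa [e, e] at hab
  · obtain ⟨⟨a, ha⟩, hay⟩ :=
      (Algebra.IsIntegral.isIntegral (R := K) y).exists_multiple_integral_of_isLocalization
        (nonZeroDivisors A) y
    refine ⟨(algebraMap A K a)⁻¹ ⊗ₜ ⟨a • y, hay⟩, ?_⟩
    have h0 : algebraMap A K a ≠ 0 := fun h => nonZeroDivisors.ne_zero ha
      (IsFractionRing.injective A K (h.trans (map_zero _).symm))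
    rw [Algebra.TensorProduct.lift_tmul, Algebra.ofId_apply, ← Algebra.smul_def]
    show (algebraMap A K a)⁻¹ • (a • y) = y
    rw [← IsScalarTower.algebraMap_smul K a y, smul_smul, inv_mul_cancel₀ h0, one_smul]

end Groth.Agent.SplitHens21
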