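import Groth.Prelude.Def_Pi1
import Groth.Prelude.Def_FEt
import Groth.Agent.SplitHens21.Alg
import Groth.Agent.Lib.FEt21.Basic

/-!
# Finite étale covers split by the strict henselization extend
-/

set_option autoImplicit false

universe u

open CategoryTheory CategoryTheory.Limits AlgebraicGeometry TensorProduct

namespace Groth.Agent.SplitHens21

/-- A finite coproduct of copies of `Spec L` is the spectrum of the product. -/
theorem exists_iso_pi (L : Type u) [CommRing L] (ι : Type u) [Finite ι] :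
    ∃ σ : (∐ fun _ : ι => Spec (CommRingCat.of L)) ≅ Spec (CommRingCat.of (ι → L)),
      ∀ i, Sigma.ι (fun _ : ι => Spec (CommRingCat.of L)) i ≫ σ.hom ≫
        Spec.map (CommRingCat.ofHom (algebraMap L (ι → L))) = 𝟙 _ := by
  refine ⟨asIso (sigmaSpec fun _ : ι => CommRingCat.of L), fun i => ?_⟩
  rw [asIso_hom, ← Category.assoc, ι_sigmaSpec, ← Spec.map_comp, ← Spec.map_id]
  exact congrArg Spec.map (CommRingCat.hom_ext rfl)

/-- An algebra isomorphism from an isomorphism of spectra over the base. -/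
theorem nonempty_algEquiv_of_iso {L S T : Type u} [CommRing L] [CommRing S] [CommRing T] [Algebra L S]
    [Algebra L T] (Q : Spec (CommRingCat.of S) ≅ Spec (CommRingCat.of T))
    (h : Q.inv ≫ Spec.map (CommRingCat.ofHom (algebraMap L S)) =
      Spec.map (CommRingCat.ofHom (algebraMap L T))) :
    Nonempty (S ≃ₐ[L] T) := by
  obtain ⟨ρ, hρ⟩ := Spec.map_surjective Q.inv
  obtain ⟨ρ', hρ'⟩ := Spec.map_surjective Q.hom
  have h1 : ρ ≫ ρ' = 𝟙 _ := Spec.map_injective (by rw [Spec.map_comp, hρ, hρ', Spec.map_id, Q.hom_inv_id])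
  have h2 : ρ' ≫ ρ = 𝟙 _ := Spec.map_injective (by rw [Spec.map_comp, hρ, hρ', Spec.map_id, Q.inv_hom_id])
  have h3 : CommRingCat.ofHom (algebraMap L S) ≫ ρ = CommRingCat.ofHom (algebraMap L T) :=
    Spec.map_injective (by rw [Spec.map_comp, hρ, h])
  exact ⟨{ (Iso.mk ρ ρ' h1 h2).commRingCatIsoToRingEquiv with
    commutes' := fun r => congr($(h3).hom r) }⟩

theorem exists_split_algEquiv {K L E : Type u} [CommRing K] [CommRing L] [CommRing E] [Algebra K L]
    [Algebra K E] (V : FEt.Cat (Spec (CommRingCat.of K))) (iV : V.left ≅ Spec (CommRingCat.of E))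
    (hiV : iV.hom ≫ Spec.map (CommRingCat.ofHom (algebraMap K E)) = V.hom)
    (hV : Pi1.IsSplit ((FEt.restrict (Spec.map (CommRingCat.ofHom (algebraMap K L)))).obj V)) :
    ∃ (ι : Type u) (_ : Finite ι), Nonempty ((L ⊗[K] E) ≃ₐ[L] (ι → L)) := by
  obtain ⟨ι, hι, e, he⟩ := hV
  refine ⟨ι, hι, ?_⟩
  let fV : V.left ⟶ Spec (CommRingCat.of K) := V.hom
  let gL := Spec.map (CommRingCat.ofHom (algebraMap K L))
  let gE := Spec.map (CommRingCat.ofHom (algebraMap K E))
  obtain ⟨σ, hσ⟩ := exists_iso_pi L ι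
  let α : pullback fV gL ≅ pullback gE gL :=
    asIso (pullback.map fV gL gE gL iV.hom (𝟙 _) (𝟙 _) (by simpa using hiV.symm) (by simp))
  let ψ : Spec (CommRingCat.of (L ⊗[K] E)) ≅ pullback fV gL :=
    (pullbackSpecIso K L E).symm ≪≫ pullbackSymmetry _ _ ≪≫ α.symm
  let Q : Spec (CommRingCat.of (L ⊗[K] E)) ≅ Spec (CommRingCat.of (ι → L)) := ψ ≪≫ e ≪≫ σ
  refine nonempty_algEquiv_of_iso Q ?_
  have hψ : ψ.hom ≫ pullback.snd fV gL = Spec.map (CommRingCat.ofHom (algebraMap L (L ⊗[K] E))) := by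
    simp only [ψ, α, Iso.trans_hom, Iso.symm_hom, asIso_inv, Category.assoc]
    have h1 : inv (pullback.map fV gL gE gL iV.hom (𝟙 _) (𝟙 _) (by simpa using hiV.symm) (by simp)) ≫
        pullback.snd fV gL = pullback.snd gE gL := by
      rw [IsIso.inv_comp_eq, pullback.lift_snd, Category.comp_id]
    rw [h1, pullbackSymmetry_hom_comp_snd, pullbackSpecIso_inv_fst]
  have hproj : e.inv ≫ pullback.snd fV gL =
      σ.hom ≫ Spec.map (CommRingCat.ofHom (algebraMap L (ι → L))) :=
    Sigma.hom_ext _ _ fun i => (he i).trans (hσ i).symm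
  show (σ.inv ≫ e.inv ≫ ψ.inv) ≫ _ = _
  rw [← hψ, Category.assoc, Category.assoc]
  exact ((congrArg (fun t => σ.inv ≫ e.inv ≫ t) (Iso.inv_hom_id_assoc ψ _)).trans
    ((congrArg (σ.inv ≫ ·) hproj).trans (Iso.inv_hom_id_assoc σ _)))

theorem exists_extension (A : Type u) [CommRing A] [IsDomain A] [IsLocalRing A] [IsIntegrallyClosed A]
    (R : Type u) [CommRing R] [IsLocalRing R] [Algebra A R] [IsLocalHom (algebraMap A R)]
    [Hensel.IsStrictHenselization A R]
    (K L : Type u) [Field K] [Field L] [Algebra A K] [IsFractionRing A K] [Algebra R L] [IsFractionRing R L]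
    [Algebra K L] [Algebra A L] [IsScalarTower A K L] [IsScalarTower A R L]
    (V : FEt.Cat (Spec (CommRingCat.of K)))
    (hV : Pi1.IsSplit ((FEt.restrict (Spec.map (CommRingCat.ofHom (algebraMap K L)))).obj V)) :
    ∃ Y : FEt.Cat (Spec (CommRingCat.of A)),
      Nonempty ((FEt.restrict (Spec.map (CommRingCat.ofHom (algebraMap A K)))).obj Y ≅ V) := by
  let fV : V.left ⟶ Spec (CommRingCat.of K) := V.hom
  have : IsFinite fV := V.prop.1
  have : IsAffine V.left := isAffine_of_isAffineHom fV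
  obtain ⟨ρ, hρ⟩ := Spec.map_surjective (V.left.isoSpec.inv ≫ fV)
  have hfinρ : IsFinite (Spec.map ρ) := by rw [hρ]; infer_instance
  rw [IsFinite.SpecMap_iff] at hfinρ
  let E : Type u := Γ(V.left, ⊤)
  letI : Algebra K E := ρ.hom.toAlgebra
  letI : Algebra A E := Algebra.compHom E (algebraMap A K)
  haveI : IsScalarTower A K E := IsScalarTower.of_algebraMap_eq fun _ => rfl
  haveI : Module.Finite K E := hfinρ
  have hiV : V.left.isoSpec.hom ≫ Spec.map (CommRingCat.ofHom (algebraMap K E)) = V.hom := by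
    show V.left.isoSpec.hom ≫ Spec.map ρ = fV
    rw [hρ, Iso.hom_inv_id_assoc]
  obtain ⟨ι, hι, ⟨χ⟩⟩ := exists_split_algEquiv (K := K) (L := L) (E := E) V V.left.isoSpec hiV hV
  obtain ⟨hfin, het, hbij⟩ := finite_etale_integralClosure (A := A) (R := R) χ
  let B := integralClosure A E
  let gB := Spec.map (CommRingCat.ofHom (algebraMap A B))
  let gK := Spec.map (CommRingCat.ofHom (algebraMap A K))
  have hfB : IsFinite gB := by
    rw [IsFinite.SpecMap_iff, CommRingCat.hom_ofHom, RingHom.finite_algebraMap]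
    exact hfin
  have heB : Etale gB := by
    rw [HasRingHomProperty.Spec_iff (P := @Etale), CommRingCat.hom_ofHom, RingHom.etale_algebraMap]
    exact het
  let Y : FEt.Cat (Spec (CommRingCat.of A)) := MorphismProperty.Over.mk ⊤ gB ⟨hfB, heB⟩
  let μ : (K ⊗[A] B) ≃ₐ[K] E := AlgEquiv.ofBijective _ hbij
  let ν : Spec (CommRingCat.of E) ≅ Spec (CommRingCat.of (K ⊗[A] B)) :=
    Scheme.Spec.mapIso μ.toRingEquiv.toCommRingCatIso.op
  let j : pullback gB gK ≅ V.left :=
    pullbackSymmetry _ _ ≪≫ pullbackSpecIso A K B ≪≫ ν.symm ≪≫ V.left.isoSpec.symm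
  refine ⟨Y, ⟨MorphismProperty.Over.isoMk j ?_⟩⟩
  show j.hom ≫ fV = pullback.snd gB gK
  have hν : ν.inv ≫ Spec.map (CommRingCat.ofHom (algebraMap K E)) =
      Spec.map (CommRingCat.ofHom (algebraMap K (K ⊗[A] B))) := by
    rw [Iso.inv_comp_eq]
    show _ = Spec.map (CommRingCat.ofHom μ.toRingEquiv.toRingHom) ≫ _
    rw [← Spec.map_comp]
    exact congrArg Spec.map (CommRingCat.hom_ext (RingHom.ext fun x => (μ.commutes x).symm))
  have hfV : V.left.isoSpec.inv ≫ fV = Spec.map (CommRingCat.ofHom (algebraMap K E)) := by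
    rw [Iso.inv_comp_eq]
    exact hiV.symm
  simp only [j, Iso.trans_hom, Iso.symm_hom, Category.assoc, hfV, hν]
  rw [← pullbackSymmetry_hom_comp_fst gB gK, ← pullbackSpecIso_hom_fst A K B]

end Groth.Agent.SplitHens21
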